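import Mathlib
import Cfsg.Agent.Helper9.Sp4P.Defs
import Cfsg.Agent.Helper9.Sp4P.Defs2
import Cfsg.Agent.Helper96.StN.Main

/-!
# A short presentation of `SL₃(q)` (S2287): definitions

One homomorphism `φ : SL₂(K) →* D` (the root subgroups `X₀₁`, `X₁₀`) and one element `c : D`
(the monomial 3-cycle `e₀ ↦ e₁ ↦ e₂ ↦ e₀`); the six root subgroups `XX φ c i j`, the tori
`HH φ c k`, the cross relations `Cross3 φ c z` at a generator `z` of `Kˣ` (route of helper64: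
one Weyl relator `t⁻¹ c t = c² t²`, three torus relators, one commutator relator, and in
characteristic `2` a second commutator relator), the relator words and the matrix model.
-/

set_option autoImplicit false

namespace Cfsg.Agent.Helper9.SL3P

open Matrix Cfsg.Agent.Helper96.StemSLTwo Cfsg.Agent.Helper96.StPres Cfsg.Agent.Helper96.StN
  Cfsg.Agent.Helper9.Sp4P

universe u v

variable {K : Type u} [Field K] {D : Type v} [Group D]

/-- the six root subgroups: `X₀₁ = φ(upper)`, `X₁₀ = φ(lower)`, and their conjugates by `c`, `c²` -/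
def XX (φ : SL2 K →* D) (c : D) (i j : Fin 3) (a : K) : D :=
  match i.val, j.val with
  | 0, 1 => xe φ a
  | 1, 0 => ye φ a
  | 1, 2 => c * xe φ a * c⁻¹
  | 2, 1 => c * ye φ a * c⁻¹
  | 2, 0 => c ^ 2 * xe φ a * (c ^ 2)⁻¹
  | 0, 2 => c ^ 2 * ye φ a * (c ^ 2)⁻¹
  | _, _ => 1

theorem XX_01 (φ : SL2 K →* D) (c : D) (a : K) : XX φ c 0 1 a = xe φ a := rfl
theorem XX_10 (φ : SL2 K →* D) (c : D) (a : K) : XX φ c 1 0 a = ye φ a := rfl
theorem XX_12 (φ : SL2 K →* D) (c : D) (a : K) : XX φ c 1 2 a = c * xe φ a * c⁻¹ := rfl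
theorem XX_21 (φ : SL2 K →* D) (c : D) (a : K) : XX φ c 2 1 a = c * ye φ a * c⁻¹ := rfl
theorem XX_20 (φ : SL2 K →* D) (c : D) (a : K) :
    XX φ c 2 0 a = c ^ 2 * xe φ a * (c ^ 2)⁻¹ := rfl
theorem XX_02 (φ : SL2 K →* D) (c : D) (a : K) :
    XX φ c 0 2 a = c ^ 2 * ye φ a * (c ^ 2)⁻¹ := rfl

/-- the three tori: `HH φ c k s = c ^ k * h(s) * c ^ (-k)`, in `SL₃` the matrix
`diag` with `s` at `k` and `s⁻¹` at `k + 1` -/
def HH (φ : SL2 K →* D) (c : D) (k : Fin 3) (s : Kˣ) : D :=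
  c ^ k.val * he φ s * (c ^ k.val)⁻¹

theorem HH_0 (φ : SL2 K →* D) (c : D) (s : Kˣ) : HH φ c 0 s = he φ s := by
  simp [HH]

theorem HH_1 (φ : SL2 K →* D) (c : D) (s : Kˣ) : HH φ c 1 s = c * he φ s * c⁻¹ := by
  simp [HH]

theorem HH_2 (φ : SL2 K →* D) (c : D) (s : Kˣ) :
    HH φ c 2 s = c ^ 2 * he φ s * (c ^ 2)⁻¹ := rfl

/-- the cross relations, `z` a generator of `Kˣ` (`t = we φ`, `h = he φ z`, `u = xe φ 1`) -/
structure Cross3 (φ : SL2 K →* D) (c : D) (z : Kˣ) : Prop where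
  wg : (we φ)⁻¹ * c * we φ = c ^ 2 * we φ ^ 2
  t3 : he φ z * (c * he φ z * c⁻¹) * (c ^ 2 * he φ z * (c ^ 2)⁻¹) = 1
  tc : Commute (he φ z) (c * he φ z * c⁻¹)
  ta : (c * he φ z * c⁻¹) * xe φ 1 * (c * he φ z * c⁻¹)⁻¹ = xe φ ((z : K)⁻¹)
  e1 : xe φ 1 * (c * xe φ 1 * c⁻¹) * (xe φ 1)⁻¹ * (c * xe φ 1 * c⁻¹)⁻¹ =
    c ^ 2 * ye φ 1 * (c ^ 2)⁻¹
  e2 : ringChar K = 2 →
    xe φ 1 * (c * xe φ ((z : K)⁻¹) * c⁻¹) * (xe φ 1)⁻¹ * (c * xe φ ((z : K)⁻¹) * c⁻¹)⁻¹ =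
      c ^ 2 * ye φ ((z : K)⁻¹) * (c ^ 2)⁻¹

/-- the commutator relation `⁅X₀₁(a), X₁₂(b)⁆ = X₀₂(v)` -/
def ERel (φ : SL2 K →* D) (c : D) (a b v : K) : Prop :=
  XX φ c 0 1 a * XX φ c 1 2 b * (XX φ c 0 1 a)⁻¹ * (XX φ c 1 2 b)⁻¹ = XX φ c 0 2 v

/-- the five cross relator words in `u = x(1)`, `h = h(z)`, `t = w(1)`, `g = x(z⁻¹)` and `c` -/
def crossWords3 {G : Type*} [Group G] (u h t g c : G) : List G :=
  [t⁻¹ * c * t * (c ^ 2 * t ^ 2)⁻¹,
   h * (c * h * c⁻¹) * (c ^ 2 * h * (c ^ 2)⁻¹),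
   h * (c * h * c⁻¹) * h⁻¹ * (c * h * c⁻¹)⁻¹,
   (c * h * c⁻¹) * u * (c * h * c⁻¹)⁻¹ * g⁻¹,
   u * (c * u * c⁻¹) * u⁻¹ * (c * u * c⁻¹)⁻¹ * (c ^ 2 * (t * u⁻¹ * t⁻¹) * (c ^ 2)⁻¹)⁻¹]

/-- the sixth cross relator word, used in characteristic `2` only -/
def crossWord6 {G : Type*} [Group G] (u t g c : G) : G :=
  u * (c * g * c⁻¹) * u⁻¹ * (c * g * c⁻¹)⁻¹ * (c ^ 2 * (t * g⁻¹ * t⁻¹) * (c ^ 2)⁻¹)⁻¹

theorem length_crossWords3 {G : Type*} [Group G] (u h t g c : G) :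
    (crossWords3 u h t g c).length = 5 := rfl

theorem map_crossWords3 {G H : Type*} [Group G] [Group H] (f : G →* H) (u h t g c : G) :
    (crossWords3 u h t g c).map f = crossWords3 (f u) (f h) (f t) (f g) (f c) := by
  simp only [crossWords3, List.map_cons, List.map_nil, map_mul, map_inv, map_pow]

theorem map_crossWord6 {G H : Type*} [Group G] [Group H] (f : G →* H) (u t g c : G) :
    f (crossWord6 u t g c) = crossWord6 (f u) (f t) (f g) (f c) := by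
  simp only [crossWord6, map_mul, map_inv, map_pow]

section model

variable (F : Type u) [Field F]

/-- the block matrix `diag(g, 1)` -/
def m3 (g : Matrix (Fin 2) (Fin 2) F) : Matrix (Fin 3) (Fin 3) F :=
  !![g 0 0, g 0 1, 0; g 1 0, g 1 1, 0; 0, 0, 1]

theorem m3_det (g : Matrix (Fin 2) (Fin 2) F) : (m3 F g).det = g.det := by
  simp [m3, Matrix.det_fin_three, Matrix.det_fin_two]

theorem m3_mul (g h : Matrix (Fin 2) (Fin 2) F) : m3 F (g * h) = m3 F g * m3 F h := by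
  ext i j
  fin_cases i <;> fin_cases j <;>
    simp [m3, Matrix.mul_apply, Fin.sum_univ_three, Fin.sum_univ_two]

theorem m3_one : m3 F (1 : Matrix (Fin 2) (Fin 2) F) = 1 := by
  ext i j
  fin_cases i <;> fin_cases j <;> simp [m3]

/-- the embedding `g ↦ diag(g, 1)` of `SL₂(F)` into `SL₃(F)` -/
def e3 : SL2 F →* Matrix.SpecialLinearGroup (Fin 3) F where
  toFun g := ⟨m3 F g.1, by rw [m3_det]; exact g.2⟩
  map_one' := by
    apply Subtype.ext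
    show m3 F ((1 : SL2 F) : Matrix (Fin 2) (Fin 2) F) = 1
    rw [Matrix.SpecialLinearGroup.coe_one, m3_one]
  map_mul' g h := by
    apply Subtype.ext
    show m3 F ((g * h : SL2 F) : Matrix (Fin 2) (Fin 2) F) =
      m3 F (g : Matrix (Fin 2) (Fin 2) F) * m3 F (h : Matrix (Fin 2) (Fin 2) F)
    rw [Matrix.SpecialLinearGroup.coe_mul, m3_mul]

theorem coe_e3 (g : SL2 F) :
    ((e3 F g : Matrix.SpecialLinearGroup (Fin 3) F) : Matrix (Fin 3) (Fin 3) F) = m3 F g.1 := rfl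

/-- the permutation matrix of the 3-cycle `e₀ ↦ e₁ ↦ e₂ ↦ e₀` -/
def cM : Matrix.SpecialLinearGroup (Fin 3) F :=
  ⟨!![0, 0, 1; 1, 0, 0; 0, 1, 0], by simp [Matrix.det_fin_three]⟩

theorem coe_cM : ((cM F : Matrix.SpecialLinearGroup (Fin 3) F) : Matrix (Fin 3) (Fin 3) F) =
    !![0, 0, 1; 1, 0, 0; 0, 1, 0] := rfl

end model

end Cfsg.Agent.Helper9.SL3P
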