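import Mathlib
import Cfsg.Agent.Helper9.SL3P.Defs
import Cfsg.Agent.Helper9.Sp4P.P_DATA

/-!
# S2287 piece (DATA) -- farm of helper9, see `tools/helper9_s2287/README.md` and the board, topic S2287.

Copy of `exists_sl2Pres` (Sp4P/P_DATA.lean) keeping the bound `5` of `card_evenRels` in
characteristic `2`.
-/

set_option autoImplicit false

namespace Cfsg.Agent.Helper9.SL3P

open Matrix Cfsg.Agent.Helper96.StemSLTwo Cfsg.Agent.Helper96.StPres Cfsg.Agent.Helper96.StN
  Cfsg.Agent.Helper9.Sp4P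

universe u v

variable (F : Type u) [Field F]

theorem exists_sl2Pres' [Fintype F] :
    ∃ d : SL2Pres F, d.rels.card ≤ 9 ∧ (ringChar F = 2 → d.rels.card ≤ 5) := by
  obtain ⟨p, hchar⟩ := CharP.exists F
  haveI := hchar
  haveI : Fact p.Prime := ⟨CharP.char_is_prime F p⟩
  have hunits : ∀ (z : F) (hz0 : z ≠ 0), (∀ s : F, s ≠ 0 → ∃ n : ℕ, z ^ n = s) →
      ∀ s : Fˣ, ∃ n : ℕ, (Units.mk0 z hz0) ^ n = s := by
    intro z hz0 hz s
    obtain ⟨n, hn⟩ := hz (s : F) s.ne_zero
    refine ⟨n, ?_⟩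
    apply Units.ext
    rw [Units.val_pow_eq_pow_val, Units.val_mk0, hn]
  by_cases h2 : p = 2
  · subst h2
    letI : Algebra (ZMod 2) F := ZMod.algebra F 2
    obtain ⟨d⟩ := Cfsg.Agent.Helper96.SLPres.exists_evenData (F := F)
    have hcard := Cfsg.Agent.Helper96.SLPres.card_evenRels d.e3 d.k d.m d.f d.g
    refine ⟨{ rels := d.rels, pi := d.pi, bij := d.pi_bijective'.1, z := Units.mk0 d.z d.hz0,
              hz := hunits d.z d.hz0 d.hz,
              uw := FreeGroup.of 0, hw := FreeGroup.of 1,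
              ww := FreeGroup.of 0 * FreeGroup.of 2 * FreeGroup.of 0,
              gw := Cfsg.Agent.Helper96.SLPres.PW 2 (FreeGroup.of 1) (FreeGroup.of 0) d.g,
              pi_u := ?_, pi_h := ?_, pi_w := ?_, pi_g := ?_ }, ?_, ?_⟩
    · exact d.pi_of 0
    · exact d.pi_of 1
    · simp only [map_mul]
      change d.pi (PresentedGroup.of 0) * d.pi (PresentedGroup.of 2) * d.pi (PresentedGroup.of 0) = _
      rw [d.pi_of, d.pi_of]
      exact Cfsg.Agent.Helper96.SLPres.t_SL
    · rw [Cfsg.Agent.Helper96.SLPres.map_PW, Cfsg.Agent.Helper96.SLPres.map_PW]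
      change Cfsg.Agent.Helper96.SLPres.PW 2 (d.pi (PresentedGroup.of 1)) (d.pi (PresentedGroup.of 0)) d.g = _
      rw [d.pi_of, d.pi_of]
      change Cfsg.Agent.Helper96.SLPres.PW 2 (dMat d.z d.hz0) (uMat F 1) d.g = _
      rw [Cfsg.Agent.Helper96.SLPres.PW_SL, d.hg]
      rfl
    · exact (Cfsg.Agent.Helper96.SLPres.card_evenRels _ _ _ _ _).trans (by norm_num)
    · intro _
      exact Cfsg.Agent.Helper96.SLPres.card_evenRels _ _ _ _ _
  · letI : Algebra (ZMod p) F := ZMod.algebra F p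
    have hp : Odd p := (Nat.Prime.eq_two_or_odd' (Fact.out : p.Prime)).resolve_left h2
    obtain ⟨d⟩ := Cfsg.Agent.Helper96.SLPres.exists_oddData (F := F) hp
    refine ⟨{ rels := d.rels true, pi := d.pi, bij := d.pi_bijective hp, z := Units.mk0 d.z d.hz0,
              hz := hunits d.z d.hz0 d.hz,
              uw := FreeGroup.of 0, hw := FreeGroup.of 1,
              ww := FreeGroup.of 2,
              gw := Cfsg.Agent.Helper96.SLPres.PW p (FreeGroup.of 1) (FreeGroup.of 0) d.g,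
              pi_u := ?_, pi_h := ?_, pi_w := ?_, pi_g := ?_ }, ?_, ?_⟩
    · exact d.pi_of 0
    · exact d.pi_of 1
    · exact d.pi_of 2
    · rw [Cfsg.Agent.Helper96.SLPres.map_PW, Cfsg.Agent.Helper96.SLPres.map_PW]
      change Cfsg.Agent.Helper96.SLPres.PW p (d.pi (PresentedGroup.of 1)) (d.pi (PresentedGroup.of 0)) d.g = _
      rw [d.pi_of, d.pi_of]
      change Cfsg.Agent.Helper96.SLPres.PW p (dMat d.z d.hz0) (uMat F 1) d.g = _
      rw [Cfsg.Agent.Helper96.SLPres.PW_SL, d.hg]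
      rfl
    · exact Cfsg.Agent.Helper96.SLPres.card_oddRels _ _ _ _ _ _
    · intro h
      exact absurd ((ringChar.eq F p).symm.trans h) h2

end Cfsg.Agent.Helper9.SL3P
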